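import Groth.Agent.Lib.GenusLe17.Field
import Groth.Agent.Lib.GenusFF17.Main
import Groth.Agent.Lib.CurveCoh17.GenusBC
import Groth.Agent.Lib.Curve17.FunctionField
import Groth.Agent.Lib.CurveLocus.GeomFibre
import Groth.Agent.Lib.VB17.Setup
import Groth.Agent.Lib.VB17.Proper

/-!
# A finite morphism of smooth proper curves does not raise the genus
-/

set_option autoImplicit false
set_option linter.style.haveILetI false

namespace Groth.Agent.GenusLe17

open CategoryTheory CategoryTheory.Limits AlgebraicGeometry Curve17

universe u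

variable {k : Type u} [Field k]

/-- A finite morphism of curves maps the generic point to the generic point. -/
theorem map_genericPoint {X Y : Scheme.{u}} [X.Over (Spec (CommRingCat.of k))] [IsIntegral X] [IsIntegral Y]
    [LocallyOfFiniteType (X ↘ Spec (CommRingCat.of k))] (hdim : topologicalKrullDim X = 1)
    (hdimY : topologicalKrullDim Y ≤ 1) (f : X ⟶ Y) [IsFinite f] : f (genericPoint X) = genericPoint Y := by
  by_contra hne
  haveI : JacobsonSpace X := LocallyOfFiniteType.jacobsonSpace (X ↘ Spec (CommRingCat.of k))
  have hcl : IsClosed ({f (genericPoint X)} : Set Y) := Curve17.isClosed_singleton hdimY hne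
  have huniv : f ⁻¹' {f (genericPoint X)} = Set.univ :=
    Set.eq_univ_of_forall fun y => ((genericPoint_specializes y).map f.continuous).mem_closed hcl rfl
  haveI : Finite X := Set.finite_univ_iff.1 (huniv ▸ f.finite_preimage_singleton _)
  have h0 := topologicalKrullDim_zero_of_discreteTopology X
  rw [hdim] at h0
  exact absurd h0 (by norm_num)

/-- The comparison over an algebraically closed field. -/
theorem genus_le_algClosed [IsAlgClosed k] {X Y : Scheme.{u}} [X.Over (Spec (CommRingCat.of k))]
    [Y.Over (Spec (CommRingCat.of k))] [IsProper (X ↘ Spec (CommRingCat.of k))]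
    [Smooth (X ↘ Spec (CommRingCat.of k))] [GeometricallyConnected (X ↘ Spec (CommRingCat.of k))]
    [IsProper (Y ↘ Spec (CommRingCat.of k))] [Smooth (Y ↘ Spec (CommRingCat.of k))]
    [GeometricallyConnected (Y ↘ Spec (CommRingCat.of k))]
    (hX : topologicalKrullDim X = 1) (hY : topologicalKrullDim Y = 1)
    (f : X ⟶ Y) [IsFinite f] (hf : f ≫ (Y ↘ Spec (CommRingCat.of k)) = X ↘ Spec (CommRingCat.of k)) :
    Curv2.genus k Y ≤ Curv2.genus k X := by
  haveI := VB17.isIntegral_of_smooth (k := k) (X := X)
  haveI := VB17.isIntegral_of_smooth (k := k) (X := Y)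
  haveI := VB17.connectedSpace_of_geometricallyConnected (k := k) (X := X)
  haveI := VB17.connectedSpace_of_geometricallyConnected (k := k) (X := Y)
  obtain ⟨hKX, hgX⟩ := GenusFF17.genus_functionField hX (VB17.h0_one_of_smooth (k := k) (X := X))
  obtain ⟨hKY, hgY⟩ := GenusFF17.genus_functionField hY (VB17.h0_one_of_smooth (k := k) (X := Y))
  letI := Curv2.stalkAlgebra k X (genericPoint X)
  letI := Curv2.stalkAlgebra k Y (genericPoint Y)
  have e := map_genericPoint (k := k) hX hY.le f
  have hbase := congrArg CommRingCat.Hom.hom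
    (genMap_baseStalk (X ↘ Spec (CommRingCat.of k)) (Y ↘ Spec (CommRingCat.of k)) f hf e)
  let G : Y.functionField →ₐ[k] X.functionField :=
    { (genMap f e).hom with commutes' := RingHom.congr_fun hbase }
  letI : Algebra Y.functionField X.functionField := G.toRingHom.toAlgebra
  haveI : IsScalarTower k Y.functionField X.functionField := IsScalarTower.of_algebraMap_eq fun c => (G.commutes c).symm
  obtain ⟨y, hy, -⟩ := FunField.ff hKY
  have hy' : Transcendental k (G y) := fun h => hy ((isAlgebraic_algHom_iff G G.toRingHom.injective).1 h)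
  haveI := (FunField.ff hKX).finiteDimensional hy'
  haveI : FiniteDimensional Y.functionField X.functionField := by
    obtain ⟨s, hs⟩ := Module.Finite.fg_top (R := IntermediateField.adjoin k ({G y} : Set X.functionField))
      (M := X.functionField)
    have hle : IntermediateField.adjoin k ({G y} : Set X.functionField) ≤ G.fieldRange :=
      IntermediateField.adjoin_simple_le_iff.2 ⟨y, rfl⟩
    refine ⟨⟨s, top_le_iff.1 fun x _ => ?_⟩⟩
    have hx : x ∈ Submodule.span (IntermediateField.adjoin k ({G y} : Set X.functionField)) (s : Set X.functionField) := by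
      rw [hs]; trivial
    induction hx using Submodule.span_induction with
    | mem z hz => exact Submodule.subset_span hz
    | zero => exact zero_mem _
    | add a b _ _ ha hb => exact add_mem (ha trivial) (hb trivial)
    | smul c z _ hz =>
      obtain ⟨c', hc'⟩ := hle c.2
      have : c • z = c' • z := by
        rw [Algebra.smul_def, Algebra.smul_def]
        exact congrArg (· * z) hc'.symm
      rw [this]
      exact Submodule.smul_mem _ _ (hz trivial)
  rw [← hgX, ← hgY]
  exact genus_le_of_finite hKY hKX

/-- The genus of the source of a finite morphism of smooth proper geometrically connected curves is at least the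
genus of the target. -/
theorem genus_le {X Y : Scheme.{u}} [X.Over (Spec (CommRingCat.of k))]
    [Y.Over (Spec (CommRingCat.of k))] [IsProper (X ↘ Spec (CommRingCat.of k))]
    [Smooth (X ↘ Spec (CommRingCat.of k))] [GeometricallyConnected (X ↘ Spec (CommRingCat.of k))]
    [IsProper (Y ↘ Spec (CommRingCat.of k))] [Smooth (Y ↘ Spec (CommRingCat.of k))]
    [GeometricallyConnected (Y ↘ Spec (CommRingCat.of k))]
    (hX : topologicalKrullDim X = 1) (hY : topologicalKrullDim Y = 1)
    (f : X ⟶ Y) [IsFinite f] (hf : f ≫ (Y ↘ Spec (CommRingCat.of k)) = X ↘ Spec (CommRingCat.of k)) :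
    Curv2.genus k Y ≤ Curv2.genus k X := by
  let σ := Spec.map (CommRingCat.ofHom (algebraMap k (AlgebraicClosure k)))
  let Y' := pullback (Y ↘ Spec (CommRingCat.of k)) σ
  let X' := pullback f (pullback.fst (Y ↘ Spec (CommRingCat.of k)) σ)
  letI : Y'.Over (Spec (CommRingCat.of (AlgebraicClosure k))) := ⟨pullback.snd _ _⟩
  letI : X'.Over (Spec (CommRingCat.of (AlgebraicClosure k))) :=
    ⟨pullback.snd f (pullback.fst (Y ↘ Spec (CommRingCat.of k)) σ) ≫ pullback.snd _ _⟩
  have hpY : IsPullback (pullback.fst _ _) (Y' ↘ Spec (CommRingCat.of (AlgebraicClosure k)))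
      (Y ↘ Spec (CommRingCat.of k)) σ := IsPullback.of_hasPullback _ _
  have hpX : IsPullback (pullback.fst f _) (X' ↘ Spec (CommRingCat.of (AlgebraicClosure k)))
      (X ↘ Spec (CommRingCat.of k)) σ := by
    have := (IsPullback.of_hasPullback f (pullback.fst (Y ↘ Spec (CommRingCat.of k)) σ)).paste_vert hpY
    rwa [hf] at this
  haveI : IsProper (Y' ↘ Spec (CommRingCat.of (AlgebraicClosure k))) := MorphismProperty.of_isPullback hpY inferInstance
  haveI : Smooth (Y' ↘ Spec (CommRingCat.of (AlgebraicClosure k))) := MorphismProperty.of_isPullback hpY inferInstance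
  haveI : GeometricallyConnected (Y' ↘ Spec (CommRingCat.of (AlgebraicClosure k))) :=
    MorphismProperty.of_isPullback hpY inferInstance
  haveI : IsProper (X' ↘ Spec (CommRingCat.of (AlgebraicClosure k))) := MorphismProperty.of_isPullback hpX inferInstance
  haveI : Smooth (X' ↘ Spec (CommRingCat.of (AlgebraicClosure k))) := MorphismProperty.of_isPullback hpX inferInstance
  haveI : GeometricallyConnected (X' ↘ Spec (CommRingCat.of (AlgebraicClosure k))) :=
    MorphismProperty.of_isPullback hpX inferInstance
  haveI : IsFinite (pullback.snd f (pullback.fst (Y ↘ Spec (CommRingCat.of k)) σ)) :=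
    MorphismProperty.of_isPullback (IsPullback.of_hasPullback _ _) inferInstance
  haveI := VB17.isNoetherian_of_over (k := k) (X := X)
  haveI := VB17.isNoetherian_of_over (k := k) (X := Y)
  have h := genus_le_algClosed (k := AlgebraicClosure k) (X := X') (Y := Y')
    ((CurveLocus.topologicalKrullDim_bc _ hpX).trans hX) ((CurveLocus.topologicalKrullDim_bc _ hpY).trans hY)
    (pullback.snd f (pullback.fst (Y ↘ Spec (CommRingCat.of k)) σ)) rfl
  unfold Curv2.genus at h ⊢
  rwa [CurveCoh17.finrank_HH_of_isPullback hpX, CurveCoh17.finrank_HH_of_isPullback hpY] at h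

end Groth.Agent.GenusLe17
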