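import Groth.Agent.Lib.Wronskian26.Canonical
import Groth.Agent.Lib.Wronskian26.Separating
import Groth.Agent.Lib.Curve17.PurelyInsep
import Groth.Agent.Lib.FunField.Weights
import Groth.Agent.Lib.FunField.RR
import Mathlib.FieldTheory.SeparableClosure
import Mathlib.FieldTheory.SeparablyGenerated

/-!
# The genus does not go up in a subfield
-/

set_option autoImplicit false
set_option linter.style.haveILetI false
set_option maxHeartbeats 800000

namespace Groth.Agent.GenusLe17

open FunFld WithZero IntermediateField IntermediateField.algebraAdjoinAdjoin Groth.Agent.FunField Groth.Agent.Wronskian26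
open scoped Multiplicative

universe u

variable {k : Type u} [Field k] [IsAlgClosed k]

omit [IsAlgClosed k] in
theorem deg_eq_sum_coeff {K : Type u} [Field K] [Algebra k K] (hdeg : ∀ P : Place k K, P.deg = 1) (D : Divisor k K) :
    D.deg = D.sum fun _ n => n := by
  rw [deg_eq_sum D D.support subset_rfl, Finsupp.sum]
  exact Finset.sum_congr rfl fun P _ => by simp [hdeg P]

/-- The genus is invariant under semilinear isomorphisms. -/
theorem genus_le_of_ringEquiv {K K' : Type u} [Field K] [Algebra k K] [Field K'] [Algebra k K']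
    (hK : IsFunctionField k K) (h' : FF k K') (ψ : k ≃+* k) (φ : K ≃+* K')
    (hφ : ∀ c, φ (algebraMap k K c) = algebraMap k K' (ψ c)) : genus k K' ≤ genus k K := by
  classical
  obtain ⟨C, hC⟩ := exists_isCanonical hK
  refine csSup_le (Set.range_nonempty _) ?_
  rintro _ ⟨D, rfl⟩
  let e : Place k K' ≃ Place k K :=
    { toFun := fun P => ⟨P.1.comap φ.toRingHom, fun c => by
          show P.1 (φ (algebraMap k K c)) ≤ 1
          rw [hφ]; exact P.2.1 _, fun v => by
          obtain ⟨z, hz⟩ := P.2.2 v
          exact ⟨φ.symm z, by simpa using hz⟩⟩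
      invFun := fun P => ⟨P.1.comap φ.symm.toRingHom, fun c => by
          show P.1 (φ.symm (algebraMap k K' c)) ≤ 1
          rw [show algebraMap k K' c = φ (algebraMap k K (ψ.symm c)) by rw [hφ, ψ.apply_symm_apply], φ.symm_apply_apply]
          exact P.2.1 _, fun v => by
          obtain ⟨z, hz⟩ := P.2.2 v
          exact ⟨φ z, by simpa using hz⟩⟩
      left_inv := fun P => Subtype.ext (Valuation.ext fun z => by simp)
      right_inv := fun P => Subtype.ext (Valuation.ext fun z => by simp) }
  let D' : Divisor k K := D.equivMapDomain e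
  have hdeg : D'.deg = D.deg := by
    rw [deg_eq_sum_coeff (fun P => deg_eq_one (ff hK) P), deg_eq_sum_coeff (fun P => deg_eq_one h' P),
      Finsupp.sum_equivMapDomain]
  have hmem : ∀ z, φ z ∈ FunFld.L D ↔ z ∈ FunFld.L D' := fun z => by
    constructor
    · intro h Q
      rw [show Q.1 z = (e.symm Q).1 (φ z) from (congrArg Q.1 (φ.symm_apply_apply z)).symm,
        Finsupp.equivMapDomain_apply]
      exact h (e.symm Q)
    · intro h P
      rw [show P.1 (φ z) = (e P).1 z from rfl, show D P = D' (e P) by
        rw [Finsupp.equivMapDomain_apply, e.symm_apply_apply]]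
      exact h (e P)
  let j : FunFld.L D' ≃+ FunFld.L D :=
    { toFun := fun z => ⟨φ z.1, (hmem _).2 z.2⟩
      invFun := fun z => ⟨φ.symm z.1, (hmem _).1 (by rw [φ.apply_symm_apply]; exact z.2)⟩
      left_inv := fun z => Subtype.ext (φ.symm_apply_apply _)
      right_inv := fun z => Subtype.ext (φ.apply_symm_apply _)
      map_add' := fun a b => Subtype.ext (map_add φ _ _) }
  have hell : ell D' = ell D := by
    unfold ell Module.finrank
    rw [rank_eq_of_equiv_equiv ψ j ψ.bijective fun r m => Subtype.ext (by
      show φ (r • m.1) = ψ r • φ m.1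
      rw [Algebra.smul_def, Algebra.smul_def, map_mul, hφ])]
  have hrr := riemann_roch hK hC D'
  rw [hdeg, hell] at hrr
  show (D.deg + 1 - ell D).toNat ≤ genus k K
  omega

/-- A separable subfield has smaller genus. -/
theorem genus_le_of_separable {K K' : Type u} [Field K] [Algebra k K] [Field K'] [Algebra k K'] [Algebra K K']
    [IsScalarTower k K K'] [FiniteDimensional K K'] [Algebra.IsSeparable K K'] (hK : IsFunctionField k K)
    (hK' : IsFunctionField k K') : genus k K ≤ genus k K' := by
  classical
  have h := ff hK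
  obtain ⟨C, hC⟩ := exists_isCanonical hK
  obtain ⟨C', hC', hC'eq⟩ := exists_canonical_pullback hK hK' hC
  have h1 := (isCanonical_deg hK hC).2
  have h2 := (isCanonical_deg hK' hC').2
  rcases Nat.eq_zero_or_pos (genus k K) with h0 | h0
  · omega
  have hle : (conorm K' C).deg ≤ C'.deg := by
    have : conorm K' C ≤ C' := fun Q => by
      rw [hC'eq, conorm_apply h]
      have := dd_nonneg h Q
      omega
    have h3 : (C' - conorm K' C).deg = C'.deg - (conorm K' C).deg := by
      rw [sub_eq_add_neg, deg_add, deg_neg]; ring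
    have h4 : 0 ≤ (C' - conorm K' C).deg := by
      rw [deg_eq_sum_coeff (fun P => deg_eq_one (ff hK') P)]
      exact Finset.sum_nonneg fun Q _ => by
        show 0 ≤ (C' - conorm K' C) Q
        rw [Finsupp.sub_apply]; have := this Q; omega
    omega
  rw [deg_conorm h] at hle
  have hn : (1 : ℤ) ≤ Module.finrank K K' := by exact_mod_cast Module.finrank_pos (R := K) (M := K')
  have : C.deg ≤ (Module.finrank K K' : ℤ) * C.deg := le_mul_of_one_le_left (by omega) hn
  omega

/-- A purely inseparable subfield over an algebraically closed field has smaller genus. -/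
theorem genus_le_of_purelyInseparable {K K' : Type u} [Field K] [Algebra k K] [Field K'] [Algebra k K'] [Algebra K K']
    [IsScalarTower k K K'] [IsPurelyInseparable K K'] (hK : IsFunctionField k K) (hK' : IsFunctionField k K') :
    genus k K ≤ genus k K' := by
  classical
  obtain ⟨p, hp⟩ := ExpChar.exists k
  haveI := hp
  haveI : ExpChar K' p := expChar_of_injective_algebraMap (algebraMap k K').injective p
  haveI := essFiniteType (k := k) (ff hK')
  obtain ⟨t, ht⟩ : ∃ t : K', Algebra.IsSeparable k⟮t⟯ K' := by
    obtain ⟨x, hx, hfin⟩ := ff hK'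
    obtain ⟨s, hs, hsep⟩ := exists_isTranscendenceBasis_and_isSeparable_of_perfectField k K'
    have htr : Algebra.trdeg k K' ≤ 1 := by
      haveI : Algebra.IsAlgebraic (Algebra.adjoin k ({x} : Set K')) K' := by
        haveI : Algebra.IsAlgebraic k⟮x⟯ K' := Algebra.IsAlgebraic.of_finite _ _
        exact (IsFractionRing.comap_isAlgebraic_iff (A := Algebra.adjoin k ({x} : Set K')) (K := k⟮x⟯) (C := K')).2 this
      simpa using Algebra.IsAlgebraic.trdeg_le_cardinalMk (R := k) (A := K') (s := ({x} : Set K'))
    have hcard : s.card ≤ 1 := by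
      have := hs.cardinalMk_eq_trdeg
      rw [← this] at htr
      simpa using htr
    obtain ⟨y, hy⟩ : ∃ y, (s : Set K') ⊆ {y} := by
      rcases s.eq_empty_or_nonempty with rfl | ⟨y, hy⟩
      · exact ⟨0, by simp⟩
      · exact ⟨y, fun z hz => Finset.card_le_one.1 hcard z hz y hy⟩
    have hle : IntermediateField.adjoin k (s : Set K') ≤ k⟮y⟯ := adjoin.mono _ _ _ hy
    letI := (IntermediateField.inclusion hle).toRingHom.toAlgebra
    haveI : IsScalarTower (IntermediateField.adjoin k (s : Set K')) k⟮y⟯ K' := IsScalarTower.of_algebraMap_eq fun _ => rfl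
    exact ⟨y, Algebra.isSeparable_tower_top_of_isSeparable (IntermediateField.adjoin k (s : Set K')) k⟮y⟯ K'⟩
  haveI := ht
  obtain ⟨r, hpow, hrange⟩ := Curve17.exists_fieldRange_eq_adjoin_pow k K K' p t
  choose ρ₀ hρ₀ using hpow
  have hinj := (algebraMap K K').injective
  let ρ : K' →+* K :=
    { toFun := ρ₀
      map_one' := hinj (by rw [hρ₀, one_pow, map_one])
      map_mul' := fun a b => hinj (by rw [map_mul, hρ₀, hρ₀, hρ₀, mul_pow])
      map_zero' := hinj (by rw [hρ₀, zero_pow (pow_pos (expChar_pos k p) r).ne', map_zero])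
      map_add' := fun a b => hinj (by rw [map_add, hρ₀, hρ₀, hρ₀, add_pow_expChar_pow]) }
  haveI : PerfectRing k p := PerfectField.toPerfectRing p
  let Fk : IntermediateField k K' := (iterateFrobenius K' p r).fieldRange.toIntermediateField fun c => by
    obtain ⟨d, rfl⟩ := (bijective_iterateFrobenius k p r).2 c
    exact ⟨algebraMap k K' d, by rw [iterateFrobenius_def, iterateFrobenius_def, map_pow]⟩
  have hsurj : Function.Surjective ρ := fun b => by
    have hb : algebraMap K K' b ∈ Fk := by
      have h1 : algebraMap K K' b ∈ adjoin k (Set.range fun a : K' => a ^ p ^ r) := hrange ▸ ⟨b, rfl⟩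
      exact (adjoin_le_iff.2 (by rintro _ ⟨a, rfl⟩; exact ⟨a, iterateFrobenius_def p r a⟩) :
        adjoin k (Set.range fun a : K' => a ^ p ^ r) ≤ Fk) h1
    obtain ⟨a, ha⟩ := hb
    exact ⟨a, hinj ((hρ₀ a).trans ((iterateFrobenius_def p r a).symm.trans ha))⟩
  refine genus_le_of_ringEquiv hK' (ff hK) (RingEquiv.ofBijective _ (bijective_iterateFrobenius k p r))
    (RingEquiv.ofBijective ρ ⟨ρ.injective, hsurj⟩) fun c => hinj ?_
  show algebraMap K K' (ρ₀ (algebraMap k K' c)) = algebraMap K K' (algebraMap k K (iterateFrobenius k p r c))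
  rw [hρ₀, ← IsScalarTower.algebraMap_apply, iterateFrobenius_def, map_pow]

/-- A subfield of finite index has smaller genus. -/
theorem genus_le_of_finite {K K' : Type u} [Field K] [Algebra k K] [Field K'] [Algebra k K'] [Algebra K K']
    [IsScalarTower k K K'] [FiniteDimensional K K'] (hK : IsFunctionField k K) (hK' : IsFunctionField k K') :
    genus k K ≤ genus k K' := by
  let S := separableClosure K K'
  haveI : IsScalarTower k S K' := IsScalarTower.of_algebraMap_eq fun c => by
    rw [IsScalarTower.algebraMap_apply k K S, ← IsScalarTower.algebraMap_apply K S K', ← IsScalarTower.algebraMap_apply]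
  have hS : IsFunctionField k S := by
    refine ⟨ff_extend (ff hK), fun y hy => ?_⟩
    obtain ⟨c, hc⟩ := hK'.2 (y : K') (hy.algHom (IsScalarTower.toAlgHom k S K'))
    exact ⟨c, (algebraMap S K').injective ((IsScalarTower.algebraMap_apply k S K' c).symm.trans hc)⟩
  exact (genus_le_of_separable (K' := S) hK hS).trans (genus_le_of_purelyInseparable (K := S) hS hK')

end Groth.Agent.GenusLe17
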